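import Groth.Agent.StabLib.Mu
import Groth.Agent.StabLib.Simple
import Groth.Agent.DecShLib.Basic
import Groth.Agent.VarDimLib.Basic
import Groth.Agent.RefHullLib.Reflexive
import Groth.Agent.S16489
import Groth.Agent.CurveVBLib.Basic

/-!
# Morphisms of slope stable reflexive sheaves
-/

set_option autoImplicit false
set_option linter.style.haveILetI false
set_option backward.isDefEq.respectTransparency false
set_option maxHeartbeats 800000
universe u

open CategoryTheory CategoryTheory.Limits AlgebraicGeometry TopologicalSpace Opposite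
open StabLib HilbPolyLib DevissLib

noncomputable section

namespace MuSimpleLib

variable {k : Type u} [Field k] {X : Scheme.{u}} [X.Over (Spec (CommRingCat.of k))] [IsIntegral X]
  [IsProper (X ↘ Spec (CommRingCat.of k))]

/-- Torsion free modules on a variety are pure. -/
theorem isPure_of_torsionFree (k : Type u) [Field k] [X.Over (Spec (CommRingCat.of k))]
    [IsProper (X ↘ Spec (CommRingCat.of k))] {n : ℕ} (hX : topologicalKrullDim X = (n : WithBot ℕ∞))
    {E : X.Modules} (htf : TorSh.IsTorsionFree E) : ShStab.IsPure X E n := by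
  intro F ι hι hF hF0
  haveI := CurvLib.isNoetherian k (X := X)
  obtain ⟨x, hx⟩ : (CohB1.support F).Nonempty := Set.nonempty_iff_ne_empty.2 fun h => hF0 (isZero_of_support_empty h)
  obtain ⟨η, hη⟩ := DevissLib.exists_asso hF hx
  have hgen := DecShLib.eq_of_specializes_asso htf (hη.of_mono ι)
    ((genericPoint_spec X).specializes (Set.mem_univ η))
  have huniv : CohB1.support F = Set.univ := by
    refine Set.eq_univ_of_forall fun y => ?_
    refine ((genericPoint_spec X).specializes (Set.mem_univ y)).mem_closed (QCohLib.isClosed_support F hF.2) ?_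
    rw [hgen]
    exact hη.mem_support
  rw [huniv]
  exact ((Homeomorph.Set.univ X).isHomeomorph.topologicalKrullDim_eq _).trans hX

/-- Points with small closure have stalks of large dimension. -/
theorem two_le_dim_stalk (k : Type u) [Field k] [X.Over (Spec (CommRingCat.of k))]
    [IsProper (X ↘ Spec (CommRingCat.of k))] {n : ℕ} (hX : topologicalKrullDim X = (n : WithBot ℕ∞)) {x : X}
    (hx : topologicalKrullDim (closure ({x} : Set X)) + 1 < (n : WithBot ℕ∞)) :
    (2 : WithBot ℕ∞) ≤ ringKrullDim (X.presheaf.stalk x) := by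
  haveI := CurvLib.isNoetherian k (X := X)
  have hl : FlatMor.localDim X x = (n : WithBot ℕ∞) := by
    refine le_antisymm ((iInf_le _ ⟨⊤, trivial⟩).trans ?_) (le_iInf fun U => ?_)
    · exact (topologicalKrullDim_subspace_le X _).trans hX.le
    · exact ((VarDimLib.dim_open_eq (X ↘ Spec (CommRingCat.of k)) U.1 ⟨x, U.2⟩).trans hX).ge
  have e := FibDimLib.localDim_eq_closure_add_stalk (X ↘ Spec (CommRingCat.of k)) x
  rw [hl] at e
  obtain ⟨a, ha⟩ : ∃ a : ℕ, topologicalKrullDim (closure ({x} : Set X)) = (a : WithBot ℕ∞) := by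
    obtain ⟨s, hs, -⟩ := @WeilLib.pdim_eq_trdeg k _ (Over.mk (X ↘ Spec (CommRingCat.of k)))
      (inferInstanceAs (LocallyOfFiniteType (X ↘ Spec (CommRingCat.of k)))) x
    exact ⟨s, hs⟩
  rw [ha] at hx e
  generalize ringKrullDim (X.presheaf.stalk x) = r at e ⊢
  induction r with
  | bot => simp at e
  | coe b =>
    induction b with
    | top =>
      exfalso
      change ((n : ℕ∞) : WithBot ℕ∞) = (((a : ℕ∞) + ⊤ : ℕ∞) : WithBot ℕ∞) at e
      rw [WithBot.coe_inj, add_top] at e
      exact ENat.coe_ne_top n e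
    | coe b =>
      change ((n : ℕ∞) : WithBot ℕ∞) = ((a : ℕ∞) : WithBot ℕ∞) + ((b : ℕ∞) : WithBot ℕ∞) at e
      have e' : n = a + b := by exact_mod_cast e
      have hx' : a + 1 < n := by exact_mod_cast hx
      change ((2 : ℕ∞) : WithBot ℕ∞) ≤ ((b : ℕ∞) : WithBot ℕ∞)
      exact WithBot.coe_le_coe.mpr (by exact_mod_cast (show 2 ≤ b by omega))

variable {L : X.Modules} (hA : CohB1.IsAmple L) {n : ℕ} (hn : 1 ≤ n)
  (hX : topologicalKrullDim X = (n : WithBot ℕ∞))
  (hreg : ∀ x : X, IsRegularLocalRing (X.presheaf.stalk x))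

include hA hn hX hreg in
theorem isIso_of_hom {F G : X.Modules} (hFr : RefHull.IsReflexive F) (hGr : RefHull.IsReflexive G)
    (hF : ShStab.IsMuStable k X L F n) (hG : ShStab.IsMuStable k X L G n)
    {pF pG : Polynomial ℚ} (hpF : ShStab.IsHilbPoly k X L F pF) (hpG : ShStab.IsHilbPoly k X L G pG)
    (hle : StabCat.hatSlope n pG ≤ StabCat.hatSlope n pF) (φ : F ⟶ G) (hφ : φ ≠ 0) : IsIso φ := by
  haveI := CurvLib.isNoetherian k (X := X)
  obtain rfl := hPoly_eq (k := k) hA hF.1 hpF
  obtain rfl := hPoly_eq (k := k) hA hG.1 hpG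
  obtain ⟨hFtf, hFn⟩ := (Groth.Agent.S16489.result X hreg F hF.1).1 hFr
  obtain ⟨hGtf, hGn⟩ := (Groth.Agent.S16489.result X hreg G hG.1).1 hGr
  have hFp := isPure_of_torsionFree k hX hFtf
  have hGp := isPure_of_torsionFree k hX hGtf
  obtain ⟨hI, hα⟩ := image_facts (k := k) hA hF.1 hG.1 hGp hφ
  have hrF : 0 < rkA k L n F := alpha_pos_of_pure hA hFp (𝟙 F) hF.1 hF.2.1
  have hrG : 0 < rkA k L n G := alpha_pos_of_pure hA hGp (𝟙 G) hG.1 hG.2.1
  have hα' : 0 < rkA k L n (Abelian.image φ) := hα
  simp only [StabCat.hatSlope] at hle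
  rw [div_le_div_iff₀ (show 0 < StabCat.alpha n _ from hrG) (show 0 < StabCat.alpha n _ from hrF)] at hle
  change degA k L n G * rkA k L n F ≤ degA k L n F * rkA k L n G at hle
  have hFd : topologicalKrullDim (CohB1.support F) ≤ (n : ℕ) := hF.2.2.1.le
  have hGd : topologicalKrullDim (CohB1.support G) ≤ (n : ℕ) := hG.2.2.1.le
  -- injectivity
  have hK := QCohLib.isCoh_kernel (Abelian.factorThruImage φ) hF.1 hI.1
  have eF := hPoly_ker (k := k) hA (Abelian.factorThruImage φ) hF.1 hI
  have hC' := QCohLib.isCoh_cokernel (Abelian.image.ι φ) hI.1 hG.1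
  have eG := hPoly_coker (k := k) hA (Abelian.image.ι φ) hI hG.1
  have d0 : 0 ≤ rkA k L n (cokernel (Abelian.image.ι φ)) :=
    rkA_nonneg hA hC' ((dim_mono (support_epi (cokernel.π _))).trans hGd)
  have hK0 : IsZero (kernel (Abelian.factorThruImage φ)) := by
    by_contra hz
    have ra : 0 < rkA k L n (kernel (Abelian.factorThruImage φ)) :=
      alpha_pos_of_pure hA hFp (kernel.ι _) hK hz
    have e1 : rkA k L n F = rkA k L n (kernel (Abelian.factorThruImage φ)) + rkA k L n (Abelian.image φ) := by
      simp only [rkA, eF, alpha_add]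
    have e2 : degA k L n F = degA k L n (kernel (Abelian.factorThruImage φ)) + degA k L n (Abelian.image φ) := by
      simp only [degA, eF, alpha_add]
    have h1 := hF.2.2.2.2 _ (kernel.ι (Abelian.factorThruImage φ)) inferInstance hK _ _
      (hPoly_spec (k := k) hA hK) (hPoly_spec (k := k) hA hF.1) ra (show rkA k L n _ < rkA k L n F by linarith)
    simp only [StabCat.hatSlope] at h1
    rw [div_lt_div_iff₀ (show 0 < StabCat.alpha n _ from ra) (show 0 < StabCat.alpha n _ from hrF)] at h1
    change degA k L n _ * rkA k L n F < degA k L n F * rkA k L n _ at h1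
    have h2 : degA k L n (Abelian.image φ) * rkA k L n G ≤ degA k L n G * rkA k L n (Abelian.image φ) := by
      have e3 : rkA k L n G = rkA k L n (Abelian.image φ) + rkA k L n (cokernel (Abelian.image.ι φ)) := by
        simp only [rkA, eG, alpha_add]
      have e4 : degA k L n G = degA k L n (Abelian.image φ) + degA k L n (cokernel (Abelian.image.ι φ)) := by
        simp only [degA, eG, alpha_add]
      rcases eq_or_lt_of_le d0 with h | h
      · have h5 : (0 : ℚ) ≤ degA k L n (cokernel (Abelian.image.ι φ)) :=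
          alpha_pred_nonneg (hPoly_deg hA hC' ((dim_mono (support_epi (cokernel.π _))).trans hGd)) (hPoly_nn hA hC') h.symm
        rw [e3, e4, ← h, add_zero]
        nlinarith
      · have h6 := hG.2.2.2.2 _ (Abelian.image.ι φ) inferInstance hI _ _
          (hPoly_spec (k := k) hA hI) (hPoly_spec (k := k) hA hG.1) hα
          (show rkA k L n (Abelian.image φ) < rkA k L n G by linarith)
        simp only [StabCat.hatSlope] at h6
        rw [div_lt_div_iff₀ (show 0 < StabCat.alpha n _ from hα) (show 0 < StabCat.alpha n _ from hrG)] at h6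
        exact h6.le
    rw [e1, e2] at h1
    have h3 : degA k L n F * rkA k L n (Abelian.image φ) < degA k L n (Abelian.image φ) * rkA k L n F := by
      rw [e1, e2]; linarith
    nlinarith [mul_lt_mul_of_pos_right h3 hrG, mul_le_mul_of_nonneg_right h2 hrF.le,
      mul_le_mul_of_nonneg_right hle hα'.le]
  haveI : Mono (Abelian.factorThruImage φ) := Abelian.mono_of_kernel_ι_eq_zero _ (hK0.eq_of_src _ _)
  haveI hmono : Mono φ := by rw [← Abelian.image.fac φ]; infer_instance
  have hC := QCohLib.isCoh_cokernel φ hF.1.1 hG.1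
  have hCd : topologicalKrullDim (CohB1.support (cokernel φ)) ≤ (n : ℕ) :=
    (dim_mono (support_epi (cokernel.π φ))).trans hGd
  have eC := hPoly_coker (k := k) hA φ hF.1 hG.1
  have g1 : rkA k L n G = rkA k L n F + rkA k L n (cokernel φ) := by simp only [rkA, eC, alpha_add]
  have g2 : degA k L n G = degA k L n F + degA k L n (cokernel φ) := by simp only [degA, eC, alpha_add]
  have c0 : 0 ≤ rkA k L n (cokernel φ) := rkA_nonneg hA hC hCd
  have hrk : rkA k L n (cokernel φ) = 0 := by
    refine le_antisymm (not_lt.mp fun h => ?_) c0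
    have h6 := hG.2.2.2.2 F φ hmono hF.1 _ _
      (hPoly_spec (k := k) hA hF.1) (hPoly_spec (k := k) hA hG.1) hrF
      (show rkA k L n F < rkA k L n G by linarith)
    simp only [StabCat.hatSlope] at h6
    rw [div_lt_div_iff₀ (show 0 < StabCat.alpha n _ from hrF) (show 0 < StabCat.alpha n _ from hrG)] at h6
    change degA k L n F * rkA k L n G < degA k L n G * rkA k L n F at h6
    linarith
  have hdeg : degA k L n (cokernel φ) = 0 := by
    refine le_antisymm ?_ (alpha_pred_nonneg (hPoly_deg hA hC hCd) (hPoly_nn hA hC) hrk)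
    rw [g1, g2, hrk, add_zero] at hle
    nlinarith
  -- the cokernel lives in codimension two
  have hsmall : ∀ x ∈ CohB1.support (cokernel φ), (2 : WithBot ℕ∞) ≤ ringKrullDim (X.presheaf.stalk x) := by
    intro x hx
    have h0 : ¬ IsZero (cokernel φ) := fun hz => by
      rw [support_of_isZero hz] at hx
      exact hx
    obtain ⟨e, he⟩ := exists_dim_eq k h0
    have he' : e ≤ n := by
      rw [he] at hCd
      exact_mod_cast hCd
    have hne1 : e ≠ n := fun h => by
      subst h
      exact (alpha_pos hA hC (hPoly_spec (k := k) hA hC) he).ne' hrk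
    have hne2 : e ≠ n - 1 := fun h => by
      subst h
      exact (alpha_pos hA hC (hPoly_spec (k := k) hA hC) he).ne' hdeg
    refine two_le_dim_stalk k hX ?_
    have hcl : closure ({x} : Set X) ⊆ CohB1.support (cokernel φ) :=
      closure_minimal (Set.singleton_subset_iff.2 hx) (QCohLib.isClosed_support _ hC.2)
    have h1 : topologicalKrullDim (closure ({x} : Set X)) ≤ (e : WithBot ℕ∞) := (dim_mono hcl).trans he.le
    refine lt_of_le_of_lt (add_le_add h1 (le_refl (1 : WithBot ℕ∞))) ?_
    exact_mod_cast (show e + 1 < n by omega)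
  -- reflexive modules extend across codimension two
  let V : X.Opens := ⟨(CohB1.support (cokernel φ))ᶜ, (QCohLib.isClosed_support _ hC.2).isOpen_compl⟩
  have hV : ∀ W : X.Opens, W ≤ V → Function.Bijective (φ.app W) := by
    intro W hW
    refine TopCat.Presheaf.app_bijective_of_stalkFunctor_map_bijective
      (F := ⟨F.presheaf, F.isSheaf⟩) (G := ⟨G.presheaf, G.isSheaf⟩) ⟨φ.mapPresheaf⟩ W fun x hxW => ?_
    let S : ShortComplex X.Modules := ShortComplex.mk φ (cokernel.π φ) (cokernel.condition φ)
    have hS : S.ShortExact :=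
      { exact := ShortComplex.exact_of_g_is_cokernel _ (cokernelIsCokernel φ)
        mono_f := hmono
        epi_g := inferInstanceAs (Epi (cokernel.π φ)) }
    haveI : IsIso ((St x).map φ) :=
      ((hS.map_of_exact (St x)).isIso_f_iff).mpr ((notMem_support_iff _ x).mp fun h => hW hxW h)
    exact ConcreteCategory.bijective_of_isIso ((St x).map φ)
  haveI := hF.1.1
  haveI := hG.1.1
  refine QCohLib.isIso_of_bijective_affine φ fun U hU => ?_
  have hin : ∀ x : X, x ∈ U → x ∉ U ⊓ V → (2 : WithBot ℕ∞) ≤ ringKrullDim (X.presheaf.stalk x) :=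
    fun x hxU hxV => hsmall x (by_contra fun h => hxV ⟨hxU, h⟩)
  have bF := hFn U (U ⊓ V) inf_le_left hin
  have bG := hGn U (U ⊓ V) inf_le_left hin
  have bV := hV (U ⊓ V) inf_le_right
  have nat : ∀ s, G.presheaf.map (homOfLE (inf_le_left : U ⊓ V ≤ U)).op (φ.app U s) =
      φ.app (U ⊓ V) (F.presheaf.map (homOfLE (inf_le_left : U ⊓ V ≤ U)).op s) := fun s =>
    (congr($(φ.mapPresheaf.naturality (homOfLE (inf_le_left : U ⊓ V ≤ U)).op) s)).symm
  refine ⟨fun a b hab => bF.1 (bV.1 ?_), fun s => ?_⟩
  · rw [← nat, ← nat, hab]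
  · obtain ⟨t', ht'⟩ := bV.2 (G.presheaf.map (homOfLE (inf_le_left : U ⊓ V ≤ U)).op s)
    obtain ⟨t, rfl⟩ := bF.2 t'
    exact ⟨t, bG.1 ((nat t).trans ht')⟩

end MuSimpleLib
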